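/-
The direct product of two saturated fusion systems is saturated.
-/
import Cfsg.Agent.Fusion.Saturation
import Cfsg.Prelude.Def_FusionComponents

set_option autoImplicit false

namespace CfsgLib.FusionProduct

open Cfsg Cfsg.FusionSystem CfsgLib.Fusion

variable {Ω₁ Ω₂ : Type*} [Group Ω₁] [Group Ω₂] {S₁ : Subgroup Ω₁} {S₂ : Subgroup Ω₂}
  {F₁ : FusionSystem S₁} {F₂ : FusionSystem S₂} {E : FusionSystem (S₁.prod S₂)}
  {Q₁ : Subgroup Ω₁} {Q₂ : Subgroup Ω₂}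

/-- The componentwise action of pairs of automorphisms. -/
def pairHom (A₁ : Subgroup (MulAut Q₁)) (A₂ : Subgroup (MulAut Q₂)) :
    A₁ × A₂ →* MulAut (Q₁ × Q₂) where
  toFun a := (a.1 : MulAut Q₁).prodCongr (a.2 : MulAut Q₂)
  map_one' := MulEquiv.ext fun _ => rfl
  map_mul' _ _ := MulEquiv.ext fun _ => rfl

/-- The pairs of automorphisms stabilizing `W`. -/
def pairStab (A₁ : Subgroup (MulAut Q₁)) (A₂ : Subgroup (MulAut Q₂)) (W : Subgroup (Q₁ × Q₂)) :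
    Subgroup (A₁ × A₂) where
  carrier := {a | ∀ z, z ∈ W ↔ pairHom A₁ A₂ a z ∈ W}
  one_mem' z := by simp
  mul_mem' {a b} ha hb z := by
    rw [map_mul, MulAut.mul_apply]
    exact (hb z).trans (ha _)
  inv_mem' {a} ha z := by
    have h := ha (pairHom A₁ A₂ a⁻¹ z)
    rw [← MulAut.mul_apply, ← map_mul, mul_inv_cancel, map_one] at h
    exact h.symm

/-- The subgroup of the ambient product with the given coordinates. -/
def amb (W : Subgroup (Q₁ × Q₂)) : Subgroup (Ω₁ × Ω₂) :=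
  W.map (Q₁.subtype.prodMap Q₂.subtype)

theorem prodMap_injective : Function.Injective (Q₁.subtype.prodMap Q₂.subtype) :=
  fun a b h => Prod.ext (Subtype.ext (congrArg Prod.fst h)) (Subtype.ext (congrArg Prod.snd h))

theorem mem_amb {W : Subgroup (Q₁ × Q₂)} {x : Ω₁ × Ω₂} :
    x ∈ amb W ↔ ∃ (h₁ : x.1 ∈ Q₁) (h₂ : x.2 ∈ Q₂), ((⟨x.1, h₁⟩, ⟨x.2, h₂⟩) : Q₁ × Q₂) ∈ W := by
  constructor
  · rintro ⟨z, hz, rfl⟩
    exact ⟨z.1.2, z.2.2, hz⟩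
  · rintro ⟨h₁, h₂, h⟩
    exact ⟨_, h, rfl⟩

theorem map_fst_amb {W : Subgroup (Q₁ × Q₂)} (hW : ∀ q : Q₁, ∃ r, (q, r) ∈ W) :
    (amb W).map (MonoidHom.fst Ω₁ Ω₂) = Q₁ := by
  refine le_antisymm ?_ fun q hq => ?_
  · rintro _ ⟨_, ⟨z, -, rfl⟩, rfl⟩
    exact z.1.2
  · obtain ⟨r, hr⟩ := hW ⟨q, hq⟩
    exact ⟨_, ⟨_, hr, rfl⟩, rfl⟩

theorem map_snd_amb {W : Subgroup (Q₁ × Q₂)} (hW : ∀ r : Q₂, ∃ q, (q, r) ∈ W) :
    (amb W).map (MonoidHom.snd Ω₁ Ω₂) = Q₂ := by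
  refine le_antisymm ?_ fun r hr => ?_
  · rintro _ ⟨_, ⟨z, -, rfl⟩, rfl⟩
    exact z.2.2
  · obtain ⟨q, hq⟩ := hW ⟨r, hr⟩
    exact ⟨_, ⟨_, hq, rfl⟩, rfl⟩

variable {p : ℕ}

/-- A subgroup with fully automized projections whose stabilizer has its Sylow subgroup induced
by `S₁ × S₂` is fully automized. -/
theorem isFullyAutomized_amb (hE : IsProductSystem F₁ F₂ E) [Finite Q₁] [Finite Q₂] [Fact p.Prime]
    (hQ₁ : Q₁ ≤ S₁) (hQ₂ : Q₂ ≤ S₂) {W : Subgroup (Q₁ × Q₂)}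
    (h₁ : ∀ q : Q₁, ∃ r, (q, r) ∈ W) (h₂ : ∀ r : Q₂, ∃ q, (q, r) ∈ W)
    (T : Sylow p (pairStab (F₁.autGroup Q₁) (F₂.autGroup Q₂) W))
    (hT : ∀ a : pairStab (F₁.autGroup Q₁) (F₂.autGroup Q₂) W,
      a ∈ (T : Subgroup (pairStab (F₁.autGroup Q₁) (F₂.autGroup Q₂) W)) ↔
        ((a.1.1 : MulAut Q₁) ∈ autInducedBy S₁ Q₁ ∧ (a.1.2 : MulAut Q₂) ∈ autInducedBy S₂ Q₂)) :
    E.IsFullyAutomized p (amb W) := by
  have hWS : amb W ≤ S₁.prod S₂ := by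
    rintro _ ⟨z, -, rfl⟩
    exact ⟨hQ₁ z.1.2, hQ₂ z.2.2⟩
  refine ⟨hWS, ?_⟩
  let K := pairStab (F₁.autGroup Q₁) (F₂.autGroup Q₂) W
  let e : W ≃* amb W := W.equivMapOfInjective (Q₁.subtype.prodMap Q₂.subtype) prodMap_injective
  let res : K →* MulAut W :=
    { toFun := fun a =>
        { toFun := fun z => ⟨pairHom _ _ a.1 z, (a.2 z).1 z.2⟩
          invFun := fun z => ⟨(pairHom _ _ a.1).symm z, (a.2 _).2 (by
            rw [MulEquiv.apply_symm_apply]; exact z.2)⟩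
          left_inv := fun z => Subtype.ext (MulEquiv.symm_apply_apply _ _)
          right_inv := fun z => Subtype.ext (MulEquiv.apply_symm_apply _ _)
          map_mul' := fun z w => Subtype.ext (map_mul (pairHom _ _ a.1) (z : Q₁ × Q₂) w) }
      map_one' := MulEquiv.ext fun z => Subtype.ext rfl
      map_mul' := fun a b => MulEquiv.ext fun z => Subtype.ext rfl }
  have hmem : ∀ a : K, MulAut.congr e (res a) ∈ E.autGroup (amb W) := by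
    intro a
    refine Subgroup.subset_closure ((hE _ _).2 ⟨hWS, ?_⟩)
    have hm₁ := (mem_autGroup_iff hQ₁).1 a.1.1.2
    have hm₂ := (mem_autGroup_iff hQ₂).1 a.1.2.2
    refine ⟨_, restrict_mem hm₁ (map_fst_amb h₁).le, _, restrict_mem hm₂ (map_snd_amb h₂).le,
      fun x hx₁ hx₂ => ?_⟩
    obtain ⟨z, rfl⟩ := e.surjective x
    show ((MulAut.congr e (res a) (e z) : amb W) : Ω₁ × Ω₂) = _
    rw [congr_apply]
    rfl
  let f : K →* E.autGroup (amb W) :=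
    ((MulAut.congr e).toMonoidHom.comp res).codRestrict _ hmem
  have hcoord : ∀ (a : K) (z : W), ((f a : MulAut (amb W)) (e z) : Ω₁ × Ω₂) =
      ((((a.1.1 : MulAut Q₁) (z : Q₁ × Q₂).1 : Q₁) : Ω₁),
        (((a.1.2 : MulAut Q₂) (z : Q₁ × Q₂).2 : Q₂) : Ω₂)) := by
    intro a z
    show ((MulAut.congr e (res a) (e z) : amb W) : Ω₁ × Ω₂) = _
    rw [congr_apply]
    rfl
  have hf : Function.Surjective f := by
    rintro ⟨α, hα⟩
    obtain ⟨-, φ₁, hφ₁, φ₂, hφ₂, hφ⟩ := (hE _ _).1 ((mem_autGroup_iff hWS).1 hα)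
    have g₁ := restrict_mem hφ₁ (map_fst_amb h₁).ge
    have g₂ := restrict_mem hφ₂ (map_snd_amb h₂).ge
    have key : ∀ z : W, (α (e z) : Ω₁ × Ω₂) =
        (restrictHom φ₁ (map_fst_amb h₁).ge (z : Q₁ × Q₂).1,
          restrictHom φ₂ (map_snd_amb h₂).ge (z : Q₁ × Q₂).2) :=
      fun z => hφ (e z) ⟨_, (e z).2, rfl⟩ ⟨_, (e z).2, rfl⟩
    have r₁ : (restrictHom φ₁ (map_fst_amb h₁).ge).range = Q₁ := by
      refine le_antisymm ?_ fun q hq => ?_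
      · rintro _ ⟨q, rfl⟩
        obtain ⟨r, hr⟩ := h₁ q
        obtain ⟨w, -, hw⟩ := (α (e ⟨_, hr⟩)).2
        have : (w.1 : Ω₁) = restrictHom φ₁ (map_fst_amb h₁).ge q :=
          congrArg Prod.fst (hw.trans (key ⟨_, hr⟩))
        exact this ▸ w.1.2
      · obtain ⟨r, hr⟩ := h₁ ⟨q, hq⟩
        obtain ⟨z, hz⟩ := e.surjective (α.symm (e ⟨_, hr⟩))
        have h := key z
        rw [hz, MulEquiv.apply_symm_apply] at h
        exact ⟨_, (congrArg Prod.fst h).symm⟩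
    have r₂ : (restrictHom φ₂ (map_snd_amb h₂).ge).range = Q₂ := by
      refine le_antisymm ?_ fun q hq => ?_
      · rintro _ ⟨q, rfl⟩
        obtain ⟨r, hr⟩ := h₂ q
        obtain ⟨w, -, hw⟩ := (α (e ⟨_, hr⟩)).2
        have : (w.2 : Ω₂) = restrictHom φ₂ (map_snd_amb h₂).ge q :=
          congrArg Prod.snd (hw.trans (key ⟨_, hr⟩))
        exact this ▸ w.2.2
      · obtain ⟨r, hr⟩ := h₂ ⟨q, hq⟩
        obtain ⟨z, hz⟩ := e.surjective (α.symm (e ⟨_, hr⟩))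
        have h := key z
        rw [hz, MulEquiv.apply_symm_apply] at h
        exact ⟨_, (congrArg Prod.snd h).symm⟩
    obtain ⟨b₁, hb₁, hb₁'⟩ := exists_iso g₁ r₁
    obtain ⟨b₂, hb₂, hb₂'⟩ := exists_iso g₂ r₂
    have hb : ((⟨b₁, hb₁.mem_autGroup⟩, ⟨b₂, hb₂.mem_autGroup⟩) :
        F₁.autGroup Q₁ × F₂.autGroup Q₂) ∈ K := by
      have hval : ∀ z : W, pairHom (F₁.autGroup Q₁) (F₂.autGroup Q₂)
          (⟨b₁, hb₁.mem_autGroup⟩, ⟨b₂, hb₂.mem_autGroup⟩) z = (e.symm (α (e z)) : W) := by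
        intro z
        refine prodMap_injective ?_
        have h := congrArg Subtype.val (e.apply_symm_apply (α (e z)))
        exact ((Prod.ext (hb₁' _) (hb₂' _)).trans (key z).symm).trans h.symm
      intro z
      constructor
      · intro hz
        rw [hval ⟨z, hz⟩]
        exact Subtype.coe_prop _
      · intro hz
        obtain ⟨w, hw⟩ : ∃ w : W, e.symm (α (e w)) = ⟨_, hz⟩ :=
          ⟨e.symm (α.symm (e ⟨_, hz⟩)), by
            rw [MulEquiv.apply_symm_apply, MulEquiv.apply_symm_apply, MulEquiv.symm_apply_apply]⟩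
        have := (hval w).trans (congrArg Subtype.val hw)
        rw [← (MulEquiv.injective _ this : (w : Q₁ × Q₂) = z)]
        exact w.2
    refine ⟨⟨_, hb⟩, Subtype.ext (MulEquiv.ext fun y => Subtype.ext ?_)⟩
    obtain ⟨z, rfl⟩ := e.surjective y
    exact ((hcoord _ z).trans (Prod.ext (hb₁' _) (hb₂' _))).trans (key z).symm
  refine ⟨T.mapSurjective hf, ?_⟩
  rw [Sylow.coe_mapSurjective]
  ext α
  rw [Subgroup.mem_subgroupOf, mem_autInducedBy_iff]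
  constructor
  · rintro ⟨a, ha, rfl⟩
    obtain ⟨ha₁, ha₂⟩ := (hT a).1 ha
    obtain ⟨g₁, hg₁, -, he₁⟩ := mem_autInducedBy_iff.1 ha₁
    obtain ⟨g₂, hg₂, -, he₂⟩ := mem_autInducedBy_iff.1 ha₂
    have hval : ∀ y : amb W, ((f a : MulAut (amb W)) y : Ω₁ × Ω₂) =
        (g₁, g₂) * (y : Ω₁ × Ω₂) * (g₁, g₂)⁻¹ := by
      intro y
      obtain ⟨z, rfl⟩ := e.surjective y
      rw [hcoord a z]
      exact Prod.ext (he₁ _) (he₂ _)
    refine ⟨(g₁, g₂), ⟨hg₁, hg₂⟩, ?_, hval⟩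
    rw [Subgroup.mem_normalizer_iff]
    intro y
    constructor
    · intro hy
      rw [← hval ⟨y, hy⟩]
      exact Subtype.coe_prop _
    · intro hy
      have h := hval ((f a : MulAut (amb W)).symm ⟨_, hy⟩)
      rw [MulEquiv.apply_symm_apply] at h
      exact (mul_left_cancel (mul_right_cancel h)).symm ▸ Subtype.coe_prop _
  · rintro ⟨g, hg, hgn, hval⟩
    obtain ⟨a, rfl⟩ := hf α
    refine ⟨a, (hT a).2 ⟨?_, ?_⟩, rfl⟩
    · refine Subgroup.subset_closure ⟨g.1, hg.1, fun q => ?_⟩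
      obtain ⟨r, hr⟩ := h₁ q
      exact congrArg Prod.fst ((hcoord a ⟨_, hr⟩).symm.trans (hval _))
    · refine Subgroup.subset_closure ⟨g.2, hg.2, fun q => ?_⟩
      obtain ⟨r, hr⟩ := h₂ q
      exact congrArg Prod.snd ((hcoord a ⟨_, hr⟩).symm.trans (hval _))

/-- A subgroup with receptive projections is receptive in the product. -/
theorem isReceptive_of_proj (hE : IsProductSystem F₁ F₂ E) {Q : Subgroup (Ω₁ × Ω₂)}
    (hQ : Q ≤ S₁.prod S₂) (h₁ : F₁.IsReceptive (Q.map (MonoidHom.fst Ω₁ Ω₂)))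
    (h₂ : F₂.IsReceptive (Q.map (MonoidHom.snd Ω₁ Ω₂))) : E.IsReceptive Q := by
  refine ⟨hQ, fun P φ hφ hr => ?_⟩
  subst hr
  obtain ⟨hP, φ₁, hφ₁, φ₂, hφ₂, hval⟩ := (hE P φ).1 hφ
  have r₁ : φ₁.range = φ.range.map (MonoidHom.fst Ω₁ Ω₂) := by
    ext y
    constructor
    · rintro ⟨⟨_, x, hx, rfl⟩, rfl⟩
      exact ⟨φ ⟨x, hx⟩, ⟨_, rfl⟩, congrArg Prod.fst (hval ⟨x, hx⟩ ⟨x, hx, rfl⟩ ⟨x, hx, rfl⟩)⟩
    · rintro ⟨_, ⟨x, rfl⟩, rfl⟩
      exact ⟨⟨_, x, x.2, rfl⟩,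
        (congrArg Prod.fst (hval x ⟨x, x.2, rfl⟩ ⟨x, x.2, rfl⟩)).symm⟩
  have r₂ : φ₂.range = φ.range.map (MonoidHom.snd Ω₁ Ω₂) := by
    ext y
    constructor
    · rintro ⟨⟨_, x, hx, rfl⟩, rfl⟩
      exact ⟨φ ⟨x, hx⟩, ⟨_, rfl⟩, congrArg Prod.snd (hval ⟨x, hx⟩ ⟨x, hx, rfl⟩ ⟨x, hx, rfl⟩)⟩
    · rintro ⟨_, ⟨x, rfl⟩, rfl⟩
      exact ⟨⟨_, x, x.2, rfl⟩,
        (congrArg Prod.snd (hval x ⟨x, x.2, rfl⟩ ⟨x, x.2, rfl⟩)).symm⟩
  obtain ⟨ψ₁, hψ₁, he₁⟩ := h₁.2 _ φ₁ hφ₁ r₁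
  obtain ⟨ψ₂, hψ₂, he₂⟩ := h₂.2 _ φ₂ hφ₂ r₂
  set N := extender (S₁.prod S₂) P φ
  have l₁ : N.map (MonoidHom.fst Ω₁ Ω₂) ≤ extender S₁ (P.map (MonoidHom.fst Ω₁ Ω₂)) φ₁ := by
    rintro _ ⟨g, hg, rfl⟩
    obtain ⟨hgS, hgn, h, hh, he⟩ := mem_extender_iff.1 hg
    refine mem_extender_iff.2 ⟨hgS.1, ?_, h.1, hh.1, ?_⟩
    · rw [Subgroup.mem_normalizer_iff]
      intro y
      constructor
      · rintro ⟨x, hx, rfl⟩
        exact ⟨g * x * g⁻¹, (Subgroup.mem_normalizer_iff.1 hgn x).1 hx, rfl⟩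
      · rintro ⟨x, hx, hxy⟩
        refine ⟨g⁻¹ * x * g, (Subgroup.mem_normalizer_iff.1 hgn _).2 ?_, ?_⟩
        · rw [show g * (g⁻¹ * x * g) * g⁻¹ = x by group]; exact hx
        · show g.1⁻¹ * x.1 * g.1 = y
          rw [show x.1 = g.1 * y * g.1⁻¹ from hxy]
          group
    · rintro ⟨_, x, hx, rfl⟩ hx'
      have hxn := (Subgroup.mem_normalizer_iff.1 hgn x).1 hx
      have a := congrArg Prod.fst (hval ⟨x, hx⟩ ⟨x, hx, rfl⟩ ⟨x, hx, rfl⟩)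
      have b := congrArg Prod.fst (hval ⟨_, hxn⟩ ⟨_, hxn, rfl⟩ ⟨_, hxn, rfl⟩)
      have c := congrArg Prod.fst (he ⟨x, hx⟩ hxn)
      exact (b.symm.trans c).trans (congrArg (fun w => h.1 * w * h.1⁻¹) a)
  have l₂ : N.map (MonoidHom.snd Ω₁ Ω₂) ≤ extender S₂ (P.map (MonoidHom.snd Ω₁ Ω₂)) φ₂ := by
    rintro _ ⟨g, hg, rfl⟩
    obtain ⟨hgS, hgn, h, hh, he⟩ := mem_extender_iff.1 hg
    refine mem_extender_iff.2 ⟨hgS.2, ?_, h.2, hh.2, ?_⟩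
    · rw [Subgroup.mem_normalizer_iff]
      intro y
      constructor
      · rintro ⟨x, hx, rfl⟩
        exact ⟨g * x * g⁻¹, (Subgroup.mem_normalizer_iff.1 hgn x).1 hx, rfl⟩
      · rintro ⟨x, hx, hxy⟩
        refine ⟨g⁻¹ * x * g, (Subgroup.mem_normalizer_iff.1 hgn _).2 ?_, ?_⟩
        · rw [show g * (g⁻¹ * x * g) * g⁻¹ = x by group]; exact hx
        · show g.2⁻¹ * x.2 * g.2 = y
          rw [show x.2 = g.2 * y * g.2⁻¹ from hxy]
          group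
    · rintro ⟨_, x, hx, rfl⟩ hx'
      have hxn := (Subgroup.mem_normalizer_iff.1 hgn x).1 hx
      have a := congrArg Prod.snd (hval ⟨x, hx⟩ ⟨x, hx, rfl⟩ ⟨x, hx, rfl⟩)
      have b := congrArg Prod.snd (hval ⟨_, hxn⟩ ⟨_, hxn, rfl⟩ ⟨_, hxn, rfl⟩)
      have c := congrArg Prod.snd (he ⟨x, hx⟩ hxn)
      exact (b.symm.trans c).trans (congrArg (fun w => h.2 * w * h.2⁻¹) a)
  let ψ : N →* Ω₁ × Ω₂ :=
    MonoidHom.prod
      ((restrictHom ψ₁ l₁).comp ((MonoidHom.fst Ω₁ Ω₂).subgroupMap N))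
      ((restrictHom ψ₂ l₂).comp ((MonoidHom.snd Ω₁ Ω₂).subgroupMap N))
  refine ⟨ψ, (hE N ψ).2 ⟨fun g hg => (mem_extender_iff.1 hg).1, _, restrict_mem hψ₁ l₁, _,
    restrict_mem hψ₂ l₂, fun x _ _ => rfl⟩, fun x hxP hxN => ?_⟩
  rw [hval ⟨x, hxP⟩ ⟨x, hxP, rfl⟩ ⟨x, hxP, rfl⟩]
  exact Prod.ext (he₁ _ ⟨x, hxP, rfl⟩ (l₁ ⟨x, hxN, rfl⟩)) (he₂ _ ⟨x, hxP, rfl⟩ (l₂ ⟨x, hxN, rfl⟩))

/-- The direct product of saturated systems is saturated. -/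
theorem isSaturated_product [Finite S₁] [Finite S₂] [Fact p.Prime] (hp₁ : IsPGroup p S₁)
    (hp₂ : IsPGroup p S₂) (hF₁ : F₁.IsSaturated p) (hF₂ : F₂.IsSaturated p)
    (hE : IsProductSystem F₁ F₂ E) : E.IsSaturated p := by
  intro P hP
  have hP₁ : P.map (MonoidHom.fst Ω₁ Ω₂) ≤ S₁ := by rintro _ ⟨x, hx, rfl⟩; exact (hP hx).1
  have hP₂ : P.map (MonoidHom.snd Ω₁ Ω₂) ≤ S₂ := by rintro _ ⟨x, hx, rfl⟩; exact (hP hx).2
  obtain ⟨Q₁, hc₁, hn₁⟩ := exists_fullyNormalized (F := F₁) hP₁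
  obtain ⟨Q₂, hc₂, hn₂⟩ := exists_fullyNormalized (F := F₂) hP₂
  obtain ⟨e₁, he₁⟩ := isConj_iff.1 hc₁
  obtain ⟨e₂, he₂⟩ := isConj_iff.1 hc₂
  obtain ⟨⟨hQ₁, R₁, hR₁⟩, hrec₁⟩ := automized_receptive hp₁ hF₁ hn₁
  obtain ⟨⟨hQ₂, R₂, hR₂⟩, hrec₂⟩ := automized_receptive hp₂ hF₂ hn₂
  have := finite_of_le hQ₁
  have := finite_of_le hQ₂
  let f : P →* Q₁ × Q₂ :=
    MonoidHom.prod (e₁.toMonoidHom.comp ((MonoidHom.fst Ω₁ Ω₂).subgroupMap P))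
      (e₂.toMonoidHom.comp ((MonoidHom.snd Ω₁ Ω₂).subgroupMap P))
  let A₁ := F₁.autGroup Q₁
  let A₂ := F₂.autGroup Q₂
  let K := pairStab A₁ A₂ f.range
  -- the product of the two Sylow subgroups
  have hRp : IsPGroup p ((R₁ : Subgroup A₁).prod (R₂ : Subgroup A₂)) := by
    refine isPGroup_iff_pow_pow_eq_one.2 ?_
    rintro ⟨⟨a, b⟩, ha, hb⟩
    obtain ⟨i, hi⟩ := isPGroup_iff_pow_pow_eq_one.1 R₁.isPGroup' ⟨a, ha⟩
    obtain ⟨j, hj⟩ := isPGroup_iff_pow_pow_eq_one.1 R₂.isPGroup' ⟨b, hb⟩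
    refine ⟨i + j, Subtype.ext (Prod.ext ?_ ?_)⟩
    · show a ^ p ^ (i + j) = 1
      rw [pow_add, pow_mul, show a ^ p ^ i = 1 from congrArg Subtype.val hi, one_pow]
    · show b ^ p ^ (i + j) = 1
      rw [pow_add, mul_comm, pow_mul, show b ^ p ^ j = 1 from congrArg Subtype.val hj, one_pow]
  have hRidx : ¬ p ∣ ((R₁ : Subgroup A₁).prod (R₂ : Subgroup A₂)).index := by
    rw [Subgroup.index_prod]
    exact (Fact.out (p := p.Prime)).not_dvd_mul R₁.not_dvd_index R₂.not_dvd_index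
  let R : Sylow p (A₁ × A₂) := hRp.toSylow hRidx
  obtain ⟨T⟩ : Nonempty (Sylow p K) := inferInstance
  obtain ⟨a, ha⟩ := exists_conj_mem_sylow R (T.isPGroup'.map K.subtype)
  let g : P →* Q₁ × Q₂ := (pairHom A₁ A₂ a).toMonoidHom.comp f
  have hg₁ : ∀ q : Q₁, ∃ r, (q, r) ∈ g.range := by
    intro q
    obtain ⟨⟨_, x, hx, rfl⟩, hy⟩ := e₁.surjective ((a.1 : MulAut Q₁).symm q)
    refine ⟨_, ⟨⟨x, hx⟩, Prod.ext ?_ rfl⟩⟩
    show (a.1 : MulAut Q₁) (e₁ ⟨x.1, _⟩) = q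
    exact (congrArg (a.1 : MulAut Q₁) hy).trans (MulEquiv.apply_symm_apply _ q)
  have hg₂ : ∀ r : Q₂, ∃ q, (q, r) ∈ g.range := by
    intro q
    obtain ⟨⟨_, x, hx, rfl⟩, hy⟩ := e₂.surjective ((a.2 : MulAut Q₂).symm q)
    refine ⟨_, ⟨⟨x, hx⟩, Prod.ext rfl ?_⟩⟩
    show (a.2 : MulAut Q₂) (e₂ ⟨x.2, _⟩) = q
    exact (congrArg (a.2 : MulAut Q₂) hy).trans (MulEquiv.apply_symm_apply _ q)
  have hQS : amb g.range ≤ S₁.prod S₂ := by
    rintro _ ⟨z, -, rfl⟩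
    exact ⟨hQ₁ z.1.2, hQ₂ z.2.2⟩
  refine ⟨amb g.range, ⟨(Q₁.subtype.prodMap Q₂.subtype).comp g, (hE P _).2 ⟨hP,
    _, IsIso.trans he₁ ((mem_autGroup_iff hQ₁).1 a.1.2),
    _, IsIso.trans he₂ ((mem_autGroup_iff hQ₂).1 a.2.2), fun x _ _ => rfl⟩,
    MonoidHom.range_comp _ _⟩, ?_, ?_⟩
  · -- the stabilizers are conjugate
    have hKK : ∀ b : A₁ × A₂, b ∈ pairStab A₁ A₂ g.range ↔ a⁻¹ * b * a ∈ K := by
      intro b
      have hr : ∀ z, z ∈ g.range ↔ pairHom A₁ A₂ a⁻¹ z ∈ f.range := by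
        intro z
        constructor
        · rintro ⟨x, rfl⟩
          refine ⟨x, ?_⟩
          show f x = pairHom A₁ A₂ a⁻¹ (pairHom A₁ A₂ a (f x))
          rw [← MulAut.mul_apply, ← map_mul, inv_mul_cancel, map_one]
          rfl
        · rintro ⟨x, hx⟩
          refine ⟨x, ?_⟩
          show pairHom A₁ A₂ a (f x) = z
          rw [hx, ← MulAut.mul_apply, ← map_mul, mul_inv_cancel, map_one]
          rfl
      have hm : ∀ (c d : A₁ × A₂) (z : Q₁ × Q₂),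
          pairHom A₁ A₂ c (pairHom A₁ A₂ d z) = pairHom A₁ A₂ (c * d) z := fun c d z => by
        rw [map_mul, MulAut.mul_apply]
      constructor
      · intro hb z
        have h1 := hb (pairHom A₁ A₂ a z)
        rw [hr, hr, hm, hm, hm, inv_mul_cancel, map_one, MulAut.one_apply] at h1
        rw [show a⁻¹ * b * a = a⁻¹ * (b * a) from mul_assoc _ _ _]
        simpa [mul_assoc] using h1
      · intro hb z
        rw [hr, hr, hm]
        have h1 := hb (pairHom A₁ A₂ a⁻¹ z)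
        rw [hm] at h1
        simpa [mul_assoc] using h1
    -- the conjugate of `T` is the trace of `R`
    let L := pairStab A₁ A₂ g.range
    let c : K ≃* L :=
      { toFun := fun b => ⟨a * b * a⁻¹, (hKK _).2 (by simpa [mul_assoc] using b.2)⟩
        invFun := fun b => ⟨a⁻¹ * b * a, (hKK _).1 b.2⟩
        left_inv := fun b => Subtype.ext (by simp [mul_assoc])
        right_inv := fun b => Subtype.ext (by simp [mul_assoc])
        map_mul' := fun b d => Subtype.ext (by simp [mul_assoc]) }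
    let T' : Sylow p L := T.mapSurjective (f := c.toMonoidHom) c.surjective
    have hle : (T' : Subgroup L) ≤ (R : Subgroup (A₁ × A₂)).subgroupOf L := by
      rintro _ ⟨b, hb, rfl⟩
      exact ha _ ⟨b, hb, rfl⟩
    have heq := T'.is_maximal' (R.isPGroup'.comap_subtype (K := L)) hle
    refine isFullyAutomized_amb hE hQ₁ hQ₂ hg₁ hg₂ T' fun b => ?_
    rw [show (T' : Subgroup L) = (R : Subgroup (A₁ × A₂)).subgroupOf L from heq.symm,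
      Subgroup.mem_subgroupOf]
    show b.1.1 ∈ (R₁ : Subgroup A₁) ∧ b.1.2 ∈ (R₂ : Subgroup A₂) ↔ _
    rw [hR₁, hR₂]
    rfl
  · refine isReceptive_of_proj hE hQS ?_ ?_
    · rw [map_fst_amb hg₁]; exact hrec₁
    · rw [map_snd_amb hg₂]; exact hrec₂

end CfsgLib.FusionProduct
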